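import Cfsg.Agent.Nodes.WittRGDD
import Cfsg.Agent.Nodes.WittInst
import Cfsg.Agent.H439.CC.Mult_m3
import Cfsg.Agent.TitsThree.KSideO
import Cfsg.Agent.TitsThree.WBridge
import Cfsg.Agent.H410.BR.OmCard_m3
import Cfsg.Agent.FastGrp
import Cfsg.Agent.Prune
set_option linter.all false

section
prune_inst 0x7f00000000000000000000000000000000000000000000000000000000000000000000000000000000000000000000000000000000000000000000000000000000000000000000000000000000000000003fffffffffffffffffffffffffffbeffbdffffffff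

-- part: H556/FD/Std_mg
section
set_option linter.all false
open scoped Cfsg.Agent.FastGrp

-- part: H556/FD/Std
section
/-!
# S4884, row `POmega⁺`: the standard flags of a hyperbolic Witt frame (helper556)

* `Idx j k` : the signed indices of the standard flag of the family `j`;
* `stdF Fr j k` : the standard subspaces, `stdF Fr j k = ⟨b (i, true) : i < k⟩`, except that the last vector
  `b (n + 1, true)` is replaced by `b (n + 1, false)` for `j = false`;
* `b_mem_iff`, `X_stab` (positive root elements), `mono_stab_iff` (monomial elements), `sg_iff`.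
-/

set_option autoImplicit false
set_option linter.unusedSimpArgs false

namespace Cfsg.Agent.H556.FD

open Cfsg.Agent.Nodes.TypeC (wt wt_apply ng ng_ng ng_fst ng_snd wt_ng)
open Cfsg.Agent.Nodes.TypeD Cfsg.Agent.Nodes.WittRoot
open Cfsg.Agent.TitsThree Cfsg.Agent.TitsThree.Siegel Cfsg.Agent.TitsThree.WittFrame

variable {n : ℕ}

/-- the sign of the index `i` in the standard flag of the family `j` -/
def sj (j : Bool) (i : Fin (n + 2)) : Bool := if (i : ℕ) = n + 1 then j else true

/-- the signed indices of the standard flag -/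
def Idx (j : Bool) (k : ℕ) (w : Fin (n + 2) × Bool) : Prop := (w.1 : ℕ) < k ∧ w.2 = sj j w.1

theorem sg_iff (i : Fin (n + 2)) (j : Bool) (k : ℕ) (hk : k ≤ n + 2) :
    (∀ w, Idx j k w → Idx j k (sg i w)) ↔
      if (i : ℕ) + 1 < n + 2 then (k ≠ i + 1 ∧ ¬ ((i : ℕ) = n ∧ j = false ∧ k = n + 2))
        else (k ≤ n ∨ (j = false ∧ k = n + 2)) := by
  have hi := i.2
  constructor
  · intro h
    split_ifs with h1
    · constructor
      · rintro rfl
        have h2 := (h (i, sj j i) ⟨by simp, rfl⟩).1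
        unfold sg at h2
        rw [dif_pos h1, if_pos rfl] at h2
        simp at h2
      · rintro ⟨h3, rfl, rfl⟩
        have h2 := (h (i, sj false i) ⟨by simp, rfl⟩).2
        unfold sg at h2
        rw [dif_pos h1, if_pos rfl] at h2
        simp [sj] at h2
        omega
    · by_contra hcon
      push Not at hcon
      obtain ⟨h3, h4⟩ := hcon
      have hi' : (i : ℕ) = n + 1 := by omega
      -- the index `n`
      have h2 := h (pd n, sj j (pd n)) ⟨by simp [pd]; omega, rfl⟩
      unfold sg at h2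
      have hne : pd n ≠ i := by
        intro h5
        have := congrArg Fin.val h5
        simp [pd] at this
        omega
      rw [dif_neg h1, if_neg hne, if_pos rfl] at h2
      have h5 : ((i : ℕ) < k) := h2.1
      have h6 : (!sj j (pd n)) = sj j i := h2.2
      have h7 : sj j (pd n) = true := by simp [sj, pd]
      have h8 : sj j i = j := by simp [sj, hi']
      rw [h7, h8] at h6
      exact h4 h6.symm (by omega)
  · intro h w hw
    obtain ⟨hw1, hw2⟩ := hw
    obtain ⟨l, s⟩ := w
    have hl := l.2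
    simp only at hw1 hw2
    subst hw2
    have key : ∀ {a b : Fin (n + 2)} {s : Bool}, (a : ℕ) < k →
        (((a : ℕ) = n + 1 → s = j) ∧ ((a : ℕ) ≠ n + 1 → s = true)) → Idx j k (a, s) := by
      intro a b s h1 h2
      refine ⟨h1, ?_⟩
      show s = sj j a
      unfold sj
      split_ifs with h3
      · exact h2.1 h3
      · exact h2.2 h3
    have hsl : ((l : ℕ) = n + 1 → sj j l = j) ∧ ((l : ℕ) ≠ n + 1 → sj j l = true) :=
      ⟨fun h3 => by simp [sj, h3], fun h3 => by simp [sj, h3]⟩
    unfold sg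
    split_ifs at h ⊢ with h1 h2 h3 h4 h5
    · have h2' : (l : ℕ) = i := congrArg Fin.val h2
      refine key (b := l) (show (i : ℕ) + 1 < k by omega) ⟨fun h3 => ?_, fun h3 => ?_⟩
      · change (i : ℕ) + 1 = n + 1 at h3
        show sj j l = j
        rw [hsl.2 (by omega)]
        rcases j with _ | _
        · exact absurd ⟨by omega, rfl, by omega⟩ h.2
        · rfl
      · exact hsl.2 (by omega)
    · have h3' : (l : ℕ) = i + 1 := congrArg Fin.val h3
      refine key (b := l) (show (i : ℕ) < k by omega) ⟨fun h4 => ?_, fun h4 => ?_⟩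
      · omega
      · show sj j l = true
        by_cases h5 : (l : ℕ) = n + 1
        · rw [hsl.1 h5]
          rcases j with _ | _
          · exact absurd ⟨by omega, rfl, by omega⟩ h.2
          · rfl
        · exact hsl.2 h5
    · exact key (b := l) hw1 hsl
    · have h4' : (l : ℕ) = i := congrArg Fin.val h4
      refine key (b := l) (show n < k by omega) ⟨fun h5 => ?_, fun h5 => ?_⟩
      · exact absurd h5 (by simp [pd])
      · show (!sj j l) = true
        rw [hsl.1 (by omega)]
        rcases h with h | ⟨h, -⟩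
        · omega
        · rw [h]; rfl
    · have h5' : (l : ℕ) = n := congrArg Fin.val h5
      refine key (b := l) (show (i : ℕ) < k by omega) ⟨fun h6 => ?_, fun h6 => ?_⟩
      · show (!sj j l) = j
        rw [hsl.2 (by omega)]
        rcases h with h | ⟨h, -⟩
        · omega
        · rw [h]; rfl
      · omega
    · exact key (b := l) hw1 hsl

section frame

variable {F : Type*} [Field F] {V : Type*} [AddCommGroup V] [Module F V] {H : HForm F V}
  (Fr : Frame H (Fin (n + 2)))

/-- the standard subspaces -/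
def stdF (j : Bool) (k : ℕ) : Submodule F V := Submodule.span F {v | ∃ w, Idx j k w ∧ v = Fr.b w}

variable {Fr}

theorem b_mem {j : Bool} {k : ℕ} {w : Fin (n + 2) × Bool} (hw : Idx j k w) : Fr.b w ∈ stdF Fr j k :=
  Submodule.subset_span ⟨w, hw, rfl⟩

/-- vectors of the standard subspace are orthogonal to the other frame vectors -/
theorem h_eq_zero {j : Bool} {k : ℕ} {w : Fin (n + 2) × Bool} (hw : ¬ Idx j k (neg w)) {v : V}
    (hv : v ∈ stdF Fr j k) : H.h v (Fr.b w) = 0 := by
  induction hv using Submodule.span_induction with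
  | mem x hx =>
    obtain ⟨y, hy, rfl⟩ := hx
    apply Fr.hb_ne
    rintro rfl
    rw [neg_neg] at hw
    exact hw hy
  | zero => exact H.zero_left _
  | add x y _ _ hx hy => rw [H.add_left, hx, hy, add_zero]
  | smul c x _ hx => rw [H.smul_left, hx, mul_zero]

theorem b_mem_iff {j : Bool} {k : ℕ} {w : Fin (n + 2) × Bool} : Fr.b w ∈ stdF Fr j k ↔ Idx j k w := by
  constructor
  · intro h
    by_contra hcon
    have h1 := h_eq_zero (w := neg w) (by rwa [neg_neg]) h
    rw [Fr.hb_self_neg] at h1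
    exact Fr.η_ne _ h1
  · exact b_mem

theorem stdF_le_iff {j : Bool} {k : ℕ} {U : Submodule F V} : stdF Fr j k ≤ U ↔ ∀ w, Idx j k w → Fr.b w ∈ U := by
  rw [stdF, Submodule.span_le]
  constructor
  · exact fun h w hw => h ⟨w, hw, rfl⟩
  · rintro h _ ⟨w, hw, rfl⟩
    exact h w hw

theorem map_le_iff {j : Bool} {k : ℕ} {g : V ≃ₗ[F] V} :
    (stdF Fr j k).map (g : V →ₗ[F] V) ≤ stdF Fr j k ↔ ∀ w, Idx j k w → g (Fr.b w) ∈ stdF Fr j k := by
  rw [Submodule.map_le_iff_le_comap, stdF_le_iff]
  rfl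

theorem map_eq_of_le [FiniteDimensional F V] {U : Submodule F V} {g : V ≃ₗ[F] V} (h : U.map (g : V →ₗ[F] V) ≤ U) :
    U.map (g : V →ₗ[F] V) = U :=
  Submodule.eq_of_le_of_finrank_eq h (LinearEquiv.finrank_map_eq g U)

/-- monomial elements -/
theorem mono_stab_iff [FiniteDimensional F V] {j : Bool} {k : ℕ} {g : V ≃ₗ[F] V}
    {π : Fin (n + 2) × Bool → Fin (n + 2) × Bool} (hg : Mono Fr g π) :
    (stdF Fr j k).map (g : V →ₗ[F] V) = stdF Fr j k ↔ ∀ w, Idx j k w → Idx j k (π w) := by
  have key : ∀ w, g (Fr.b w) ∈ stdF Fr j k ↔ Idx j k (π w) := by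
    intro w
    obtain ⟨l, hl, e⟩ := hg w
    rw [e, Submodule.smul_mem_iff _ hl, b_mem_iff]
  constructor
  · intro h w hw
    rw [← key]
    exact map_le_iff.1 h.le w hw
  · intro h
    exact map_eq_of_le (map_le_iff.2 fun w hw => (key w).2 (h w hw))

/-- root elements of positive roots -/
theorem X_stab [FiniteDimensional F V] {j : Bool} {k : ℕ} {a b : Fin (n + 2) × Bool} (hab : (a.1 : ℕ) < b.1)
    (ha : a.2 = true) (t : F) : (stdF Fr j k).map (Fr.X a b t : V →ₗ[F] V) = stdF Fr j k := by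
  have hne : a.1 ≠ b.1 := fun h => by rw [h] at hab; exact lt_irrefl _ hab
  have hb2 := b.1.2
  refine map_eq_of_le (map_le_iff.2 fun w hw => ?_)
  rw [Fr.X_eq hne, HForm.sie_apply]
  have h1 : H.h (Fr.b w) (Fr.b a) = 0 := by
    apply Fr.hb_ne
    intro h2
    have h3 : w = neg a := by rw [h2, neg_neg]
    have h4 := hw.2
    have h5 : (w.1 : ℕ) = a.1 := by rw [h3]; rfl
    have h6 : w.2 = false := by rw [h3, neg_snd, ha]; rfl
    rw [h6] at h4
    unfold sj at h4
    split_ifs at h4
    omega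
  rw [h1, zero_smul, add_zero, mul_zero, zero_smul, add_zero]
  refine Submodule.sub_mem _ (b_mem hw) ?_
  by_cases h2 : w = neg b
  · refine Submodule.smul_mem _ _ (b_mem ?_)
    have h3 : (w.1 : ℕ) = b.1 := by rw [h2]; rfl
    have h4 := hw.1
    refine ⟨by omega, ?_⟩
    rw [ha]
    unfold sj
    rw [if_neg (by omega)]
  · have h3 : H.h (Fr.b w) (Fr.sc b t • Fr.b b) = 0 := by
      rw [H.smul_right, Fr.hb_ne (fun h => h2 (by rw [h, neg_neg])), mul_zero]
    rw [h3, mul_zero, zero_smul]
    exact Submodule.zero_mem _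

end frame

end Cfsg.Agent.H556.FD
end

-- part: H478/CC/DDefs
section
/-!
# The standard flags of type `D_{n+2}` (S4884, row oplus, block F-D)

* `Qp n F` : the hyperbolic form of rank `n + 2`, `Fr n F` its standard frame (`b (i, true) = e_i`, `b (i, false) = f_i`);
* `zz s i` : the signed index `(i, true)`, but `(n + 1, s)` for the last one;
* `std s k` : the span of `b (zz s i)`, `i < k`;
* `AdmQ U`  : `U` is totally singular.
-/

set_option autoImplicit false

namespace Cfsg.Agent.H478.CC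

open Cfsg Cfsg.Agent.LieClassical Cfsg.Agent.LieClassical.OrthForms
open Cfsg.Agent.TitsThree.KSideO Cfsg.Agent.TitsThree.WBridge Cfsg.Agent.TitsThree.WittFrame Cfsg.Agent.Nodes.WittInst

variable (n : ℕ) (F : Type*) [Field F]

/-- the hyperbolic form -/
abbrev Qp : QuadraticForm F (Fin (n + 2) ⊕ Fin (n + 2) → F) := plusForm (n + 2) F

/-- its standard frame -/
abbrev Fr : Frame (HO (Qp n F)) (Fin (n + 2)) := toFrame (wplus (n + 2) F)

variable {n F}

/-- the signed indices of the two standard flags -/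
def zz (s : Bool) (i : Fin (n + 2)) : Fin (n + 2) × Bool := (i, if i = Fin.last (n + 1) then s else true)

/-- the standard totally singular subspaces -/
def std (s : Bool) (k : ℕ) : Submodule F (Fin (n + 2) ⊕ Fin (n + 2) → F) :=
  Submodule.span F ((fun i => (Fr n F).b (zz s i)) '' {i : Fin (n + 2) | (i : ℕ) < k})

/-- totally singular subspaces -/
def AdmQ (U : Submodule F (Fin (n + 2) ⊕ Fin (n + 2) → F)) : Prop := ∀ u ∈ U, Qp n F u = 0

end Cfsg.Agent.H478.CC
end

private theorem dce_19fdf911674d : _root_.True := by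
  try have : _root_.True := by simp only [_root_.Cfsg.Agent.H556.FD.stdF.eq_1]
  try have : _root_.True := by simp only [_root_.Cfsg.Agent.H556.FD.sj.eq_1]
  exact _root_.True.intro
end

-- part: H478/CC/FlagsD
section
set_option linter.all false
open scoped Cfsg.Agent.FastGrp

-- part: H556/FD/Stab
section
/-!
# S4884, row `POmega⁺`: the parabolic subgroups of types `JD K j` are the stabilizers of the standard flags (helper556)
-/

set_option autoImplicit false
set_option linter.unusedSimpArgs false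

namespace Cfsg.Agent.H556.FD

open Cfsg Cfsg.Agent.ChevalleyStructure.CoxeterGeom Cfsg.Agent.Tits.Roots
open Cfsg.Agent.Nodes.TypeC (wt wt_apply ng ng_ng ng_fst ng_snd wt_ng)
open Cfsg.Agent.Nodes.TypeD Cfsg.Agent.Nodes.WittRoot Cfsg.Agent.Nodes.BNOf Cfsg.Agent.Nodes.LeviDec
open Cfsg.Agent.Nodes.RGDLib Cfsg.Agent.Nodes.WittInst
open Cfsg.Agent.Nodes.WittRGD (Tor)
open Cfsg.Agent.TitsThree Cfsg.Agent.TitsThree.Siegel Cfsg.Agent.TitsThree.SiegelGen
  Cfsg.Agent.TitsThree.WittFrame Cfsg.Agent.TitsThree.WBridge Cfsg.Agent.TitsThree.KSideO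
open Cfsg.Agent.LieClassical Cfsg.Agent.LieClassical.OrthCore Cfsg.Agent.LieClassical.OrthTrans
open Cfsg.Agent.LieClassical.OrthSimple
open Cfsg.Agent.H439.CC

variable {n : ℕ}

/-- positive roots -/
theorem pos_root {x : Fin (n + 2) → ℤ} (hx : 0 ≤ x) {a b : Fin (n + 2) × Bool} (hab : (a.1 : ℕ) < b.1)
    (e : ee x = wt a + wt b) : a.2 = true := by
  have hb2 := b.1.2
  -- the partial sum up to `a.1`
  have h1 : 0 ≤ ∑ k ∈ Finset.Iic a.1, ee x k := by
    have h2 : ∀ k, ee x k = ∑ j, x j * bt j k := by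
      intro k
      simp [ee, Finset.sum_apply]
    simp only [h2]
    rw [Finset.sum_comm]
    simp only [← Finset.mul_sum, sum_bt]
    refine Finset.sum_nonneg fun i _ => mul_nonneg (hx i) ?_
    split_ifs <;> norm_num
  rw [e] at h1
  simp only [Pi.add_apply, Finset.sum_add_distrib, wt, Finset.sum_pi_single', Finset.mem_Iic] at h1
  have h3 : ¬ b.1 ≤ a.1 := by rw [Fin.le_def]; omega
  rw [if_neg h3] at h1
  by_contra hcon
  rw [Bool.not_eq_true] at hcon
  rw [hcon] at h1
  norm_num at h1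

variable {ι : Type} [Fintype ι] [DecidableEq ι] {F : Type*} [Field F] {Q : QuadraticForm F (ι → F)}
  (W : WFrame (PO Q) (n + 2))

/-- the stabilizer of the standard flag -/
def StE (K : Finset ℕ) (j : Bool) : Subgroup (E Q) where
  carrier := {g | ∀ k ∈ K, (stdF (toFrame W) j k).map ((g : (ι → F) ≃ₗ[F] (ι → F)) : (ι → F) →ₗ[F] (ι → F)) =
    stdF (toFrame W) j k}
  one_mem' := fun k _ => Submodule.map_id _
  mul_mem' := by
    intro g h hg hh k hk
    have h1 : (stdF (toFrame W) j k).map (((g * h : E Q) : (ι → F) ≃ₗ[F] (ι → F)) : (ι → F) →ₗ[F] (ι → F)) =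
        ((stdF (toFrame W) j k).map ((h : (ι → F) ≃ₗ[F] (ι → F)) : (ι → F) →ₗ[F] (ι → F))).map
          ((g : (ι → F) ≃ₗ[F] (ι → F)) : (ι → F) →ₗ[F] (ι → F)) := by
      rw [← Submodule.map_comp]
      rfl
    rw [h1, hh k hk, hg k hk]
  inv_mem' := by
    intro g hg k hk
    have h1 := hg k hk
    conv_lhs => rw [← h1, ← Submodule.map_comp]
    have h2 : (((g⁻¹ : E Q) : (ι → F) ≃ₗ[F] (ι → F)) : (ι → F) →ₗ[F] (ι → F)) ∘ₗ
        ((g : (ι → F) ≃ₗ[F] (ι → F)) : (ι → F) →ₗ[F] (ι → F)) = LinearMap.id := by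
      refine LinearMap.ext fun v => ?_
      show (g : (ι → F) ≃ₗ[F] (ι → F))⁻¹ ((g : (ι → F) ≃ₗ[F] (ι → F)) v) = v
      exact (g : (ι → F) ≃ₗ[F] (ι → F)).symm_apply_apply v
    rw [h2, Submodule.map_id]

omit [Fintype ι] [DecidableEq ι] in
theorem mem_StE {K : Finset ℕ} {j : Bool} {g : E Q} : g ∈ StE W K j ↔
    ∀ k ∈ K, (stdF (toFrame W) j k).map ((g : (ι → F) ≃ₗ[F] (ι → F)) : (ι → F) →ₗ[F] (ι → F)) =
      stdF (toFrame W) j k := Iff.rfl

seal _root_.Finset.sum _root_.dotProduct in
/-- membership passes to the quotient -/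
theorem map_mem_iff [Finite F] (hG : _root_.Cfsg.Agent.LieClassical.OrthTrans.Good Q) {K : Finset ℕ} {j : Bool} {g : E Q} :
    toPOmega hG g ∈ (StE W K j).map (toPOmega hG) ↔ g ∈ StE W K j := by
  constructor
  · rintro ⟨g', hg', e⟩
    have h1 : toPOmega hG (g'⁻¹ * g) = 1 := by rw [map_mul, map_inv, e, inv_mul_cancel]
    obtain ⟨c, hc⟩ := scalar_of_center hG (center_of_toPOmega hG h1)
    have h2 : g'⁻¹ * g ∈ StE W K j := by
      intro k _
      refine map_eq_of_le (Submodule.map_le_iff_le_comap.2 fun v hv => ?_)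
      show (g'⁻¹ * g).1 v ∈ stdF (toFrame W) j _
      rw [hc]
      exact Submodule.smul_mem _ _ hv
    have h3 : g = g' * (g'⁻¹ * g) := by group
    rw [h3]
    exact mul_mem hg' h2
  · exact fun h => ⟨g, h, rfl⟩

/-- **The parabolic subgroups of the types `JD K j`.** -/
theorem mem_PJ_iff [Finite F] (hG : _root_.Cfsg.Agent.LieClassical.OrthTrans.Good Q) (hA : Amb (toFrame W) (E Q)) (h0 : ∀ p : (toFrame W).Adm, p = 1) {p : ℕ}
    [Fact p.Prime] [CharP F p] {G : Type*} [Group G] (cs : CoxeterSystem (M n) G) {K : Finset ℕ}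
    (hK : K ⊆ Finset.Icc 1 (n + 2)) (hN : n + 2 ∈ K) (j : Bool) (g : E Q) :
    toPOmega hG g ∈ PJ cs (isCartan n) (((Tor (toFrame W) (E Q)).subgroupOf (E Q)).map (toPOmega hG))
      (XD W (toPOmega hG)) (JD K j) ↔
      ∀ k ∈ K, (stdF (toFrame W) j k).map ((g : (ι → F) ≃ₗ[F] (ι → F)) : (ι → F) →ₗ[F] (ι → F)) =
        stdF (toFrame W) j k := by
  have hGf : Finite G := finite_W cs
  have R := rgdD_model W hG hA h0 (p := p) cs
  rw [← mem_StE, ← map_mem_iff W hG]
  set! P := (StE W K j).map (toPOmega hG) with hP; rewrite [← hP]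
  -- `B ≤ P`
  have hB : RGD.B cs (isCartan n) (((Tor (toFrame W) (E Q)).subgroupOf (E Q)).map (toPOmega hG))
      (XD W (toPOmega hG)) ≤ P := by
    refine sup_le ?_ (RGD.Sup_le ?_)
    · refine Subgroup.map_mono fun t ht => ?_
      intro k _
      exact (mono_stab_iff (Subgroup.mem_subgroupOf.1 ht).2).2 fun w hw => hw
    · rintro x ⟨hx, hx0⟩
      refine Subgroup.map_mono fun t ht => ?_
      have ht' : (t : (ι → F) ≃ₗ[F] (ι → F)) ∈ Cfsg.Agent.Nodes.WittRGDD.rg (toFrame W) x :=
        Subgroup.mem_subgroupOf.1 ht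
      obtain ⟨a, b, hab, e⟩ := exists_of_isRoot cs hx
      have key : ∀ a b : Fin (n + 2) × Bool, (a.1 : ℕ) < b.1 → ee x = wt a + wt b → t ∈ StE W K j := by
        intro a b hab e
        have hne : a.1 ≠ b.1 := fun h => by rw [h] at hab; exact lt_irrefl _ hab
        rw [Cfsg.Agent.Nodes.WittRGDD.rg_eq (toFrame W) hne e] at ht'
        obtain ⟨s, hs⟩ := ht'
        intro k _
        rw [hs]
        exact X_stab hab (pos_root hx0 hab e) s
      rcases lt_trichotomy (a.1 : ℕ) (b.1 : ℕ) with h1 | h1 | h1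
      · exact key a b h1 e
      · exact absurd (Fin.ext h1) hab
      · exact key b a h1 (e.trans (add_comm _ _))
  have h1 := inf_eq_PJ R hB
  -- the group is generated
  have hGG : Cfsg.Agent.Nodes.Bruhat.GG cs (isCartan n) (((Tor (toFrame W) (E Q)).subgroupOf (E Q)).map (toPOmega hG))
      (XD W (toPOmega hG)) = ⊤ := by
    rw [eq_top_iff, ← G1D_eq_top W (toPOmega hG) (toPOmega_surjective hG) h0 cs]
    exact le_sup_right
  rw [hGG, inf_top_eq] at h1
  have h2 : {i | (fun i => toPOmega hG ⟨Cfsg.Agent.Nodes.WittRGDD.nn (toFrame W) i,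
      Cfsg.Agent.Nodes.WittRGDD.nn_mem hA i⟩) i ∈ P} = JD K j := by
    ext i
    have hi := i.2
    show toPOmega hG _ ∈ P ↔ _
    rw [hP, map_mem_iff W hG, mem_StE]
    have h3 : ∀ k, (stdF (toFrame W) j k).map ((Cfsg.Agent.Nodes.WittRGDD.nn (toFrame W) i :
        (ι → F) ≃ₗ[F] (ι → F)) : (ι → F) →ₗ[F] (ι → F)) = stdF (toFrame W) j k ↔
        ∀ w, Idx j k w → Idx j k (sg i w) := fun k => mono_stab_iff (Cfsg.Agent.Nodes.WittRGDD.mono_nn i)
    have h4 : (∀ k ∈ K, (stdF (toFrame W) j k).map ((Cfsg.Agent.Nodes.WittRGDD.nn (toFrame W) i :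
        (ι → F) ≃ₗ[F] (ι → F)) : (ι → F) →ₗ[F] (ι → F)) = stdF (toFrame W) j k) ↔
        ∀ k ∈ K, (if (i : ℕ) + 1 < n + 2 then (k ≠ i + 1 ∧ ¬ ((i : ℕ) = n ∧ j = false ∧ k = n + 2))
        else (k ≤ n ∨ (j = false ∧ k = n + 2))) := by
      refine forall₂_congr fun k hk => ?_
      rw [h3, sg_iff i j k (Finset.mem_Icc.1 (hK hk)).2]
    refine h4.trans ?_
    have hN' : 1 ≤ n + 2 ∧ n + 2 ≤ n + 2 := Finset.mem_Icc.1 (hK hN)
    cases j with
    | true =>
      show _ ↔ (i : ℕ) + 1 ∉ K
      constructor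
      · intro h5 h6
        have h7 := h5 _ h6
        split_ifs at h7 with h8
        · exact h7.1 rfl
        · rcases h7 with h7 | h7
          · omega
          · exact absurd h7.1 (by simp)
      · intro h5 k hk
        have hk' := Finset.mem_Icc.1 (hK hk)
        split_ifs with h8
        · refine ⟨fun h => h5 (h ▸ hk), fun h => absurd h.2.1 (by simp)⟩
        · exfalso
          apply h5
          have : (i : ℕ) + 1 = n + 2 := by omega
          rw [this]
          exact hN
    | false =>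
      show _ ↔ ((Equiv.swap (Fin.last (n + 1)) (Fin.castSucc (Fin.last n)) i : Fin (n + 2)) : ℕ) + 1 ∉ K
      have hsw : ((Equiv.swap (Fin.last (n + 1)) (Fin.castSucc (Fin.last n)) i : Fin (n + 2)) : ℕ) =
          if (i : ℕ) = n + 1 then n else if (i : ℕ) = n then n + 1 else i := by
        have e1 : i = Fin.last (n + 1) ↔ (i : ℕ) = n + 1 := by rw [Fin.ext_iff, Fin.val_last]
        have e2 : i = Fin.castSucc (Fin.last n) ↔ (i : ℕ) = n := by rw [Fin.ext_iff]; simp
        by_cases h5 : (i : ℕ) = n + 1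
        · rw [if_pos h5, e1.2 h5, Equiv.swap_apply_left]
          simp
        by_cases h6 : (i : ℕ) = n
        · rw [if_neg h5, if_pos h6, e2.2 h6, Equiv.swap_apply_right]
          simp
        rw [if_neg h5, if_neg h6, Equiv.swap_apply_of_ne_of_ne (fun h => h5 (e1.1 h)) (fun h => h6 (e2.1 h))]
      rw [hsw]
      constructor
      · intro h5 h6
        split_ifs at h6 with h9 h10
        · have h7 := h5 _ h6
          rw [if_neg (by omega)] at h7
          rcases h7 with h7 | h7
          · omega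
          · omega
        · have h7 := h5 _ hN
          rw [if_pos (by omega)] at h7
          exact h7.2 ⟨h10, rfl, rfl⟩
        · have h7 := h5 _ h6
          rw [if_pos (by omega)] at h7
          exact h7.1 rfl
      · intro h5 k hk
        have hk' := Finset.mem_Icc.1 (hK hk)
        split_ifs at h5 with h9 h10
        · rw [if_neg (by omega)]
          by_cases h11 : k = n + 2
          · exact Or.inr ⟨rfl, h11⟩
          · left
            by_contra h12
            exact h5 ((by omega : k = n + 1) ▸ hk)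
        · exact absurd hN h5
        · rw [if_pos (by omega)]
          exact ⟨fun h => h5 (h ▸ hk), fun h => h10 h.1⟩
  rw [h1, h2]

end Cfsg.Agent.H556.FD
end

-- part: H556/FD/Disj
section
/-!
# S4884, row `POmega⁺`: the standard flags, dimensions and the two families (helper556)

* `linearIndependent_b`, `finrank_stdF`, `stdF_mono`, `stdF_ts`;
* `finrank_V` : `dim V = 2 (n + 2)` if the anisotropic part is zero;
* `stdF_ne` : no element of `E Q` maps `stdF true (n + 2)` to `stdF false (n + 2)`.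
-/

set_option autoImplicit false

namespace Cfsg.Agent.H556.FD

open Module QuadraticMap
open Cfsg.Agent.LieClassical.OrthCore
open Cfsg.Agent.TitsThree Cfsg.Agent.TitsThree.Siegel Cfsg.Agent.TitsThree.SiegelGen
  Cfsg.Agent.TitsThree.WittFrame Cfsg.Agent.TitsThree.WBridge Cfsg.Agent.TitsThree.KSideO

variable {n : ℕ}

section frame

variable {F : Type*} [Field F] {V : Type*} [AddCommGroup V] [Module F V] {H : HForm F V}
  {Fr : Frame H (Fin (n + 2))}

theorem linearIndependent_b : LinearIndependent F Fr.b := by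
  rw [linearIndependent_iff']
  intro s c h w hw
  have h1 : H.h (∑ x ∈ s, c x • Fr.b x) (Fr.b (neg w)) = c w * H.h (Fr.b w) (Fr.b (neg w)) := by
    have key : ∀ t : Finset (Fin (n + 2) × Bool), w ∈ t →
        H.h (∑ x ∈ t, c x • Fr.b x) (Fr.b (neg w)) = c w * H.h (Fr.b w) (Fr.b (neg w)) := by
      intro t hw
      have key2 : ∀ t : Finset (Fin (n + 2) × Bool), w ∉ t →
          H.h (∑ x ∈ t, c x • Fr.b x) (Fr.b (neg w)) = 0 := by
        intro t
        induction t using Finset.induction_on with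
        | empty => intro _; rw [Finset.sum_empty, H.zero_left]
        | insert x t hx ih =>
          intro hw
          rw [Finset.mem_insert, not_or] at hw
          rw [Finset.sum_insert hx, H.add_left, ih hw.2, add_zero, H.smul_left, Fr.hb_ne, mul_zero]
          intro h2
          apply hw.1
          rw [← WittFrame.neg_neg w, h2, WittFrame.neg_neg]
      rw [← Finset.add_sum_erase t _ hw, H.add_left, key2 _ (Finset.notMem_erase w t), add_zero, H.smul_left]
    exact key s hw
  rw [h, H.zero_left, Fr.hb_self_neg] at h1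
  exact (mul_eq_zero.1 h1.symm).resolve_right (Fr.η_ne _)

theorem stdF_eq (j : Bool) {k : ℕ} (hk : k ≤ n + 2) :
    stdF Fr j k = Submodule.span F (Set.range fun i : Fin k => Fr.b (Fin.castLE hk i, sj j (Fin.castLE hk i))) := by
  unfold stdF
  congr 1
  ext v
  constructor
  · rintro ⟨⟨l, s⟩, ⟨h1, h2⟩, rfl⟩
    refine ⟨⟨l, h1⟩, ?_⟩
    have h3 : Fin.castLE hk ⟨(l : ℕ), h1⟩ = l := Fin.ext rfl
    show Fr.b (Fin.castLE hk ⟨(l : ℕ), h1⟩, _) = _
    rw [h3]
    exact congrArg Fr.b (Prod.ext rfl h2.symm)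
  · rintro ⟨i, rfl⟩
    exact ⟨_, ⟨i.2, rfl⟩, rfl⟩

theorem finrank_stdF (j : Bool) {k : ℕ} (hk : k ≤ n + 2) : finrank F (stdF Fr j k) = k := by
  rw [stdF_eq j hk, finrank_span_eq_card]
  · exact Fintype.card_fin k
  · refine linearIndependent_b.comp (fun i : Fin k => (Fin.castLE hk i, sj j (Fin.castLE hk i))) ?_
    intro a b hab
    have h1 := congrArg Prod.fst hab
    exact Fin.castLE_injective hk h1

theorem stdF_mono (j : Bool) {k l : ℕ} (h : k ≤ l) : stdF Fr j k ≤ stdF Fr j l :=
  stdF_le_iff.2 fun _ hw => b_mem ⟨hw.1.trans_le h, hw.2⟩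

/-- the two families have the same subspaces of dimension at most `n + 1` -/
theorem stdF_congr (j j' : Bool) {k : ℕ} (hk : k ≤ n + 1) : stdF Fr j k = stdF Fr j' k := by
  have key : ∀ j j' : Bool, stdF Fr j k ≤ stdF Fr j' k := by
    intro j j'
    refine stdF_le_iff.2 fun w hw => b_mem ⟨hw.1, ?_⟩
    have h1 := hw.1
    have h2 := hw.2
    unfold sj at h2 ⊢
    rw [if_neg (by omega)] at h2 ⊢
    exact h2
  exact le_antisymm (key j j') (key j' j)

theorem stdF_inf [FiniteDimensional F V] : finrank F ↥(stdF Fr true (n + 2) ⊓ stdF Fr false (n + 2)) = n + 1 := by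
  have h1 : stdF Fr true (n + 1) ≤ stdF Fr true (n + 2) ⊓ stdF Fr false (n + 2) :=
    le_inf (stdF_mono _ (Nat.le_succ _)) ((stdF_congr true false le_rfl).le.trans (stdF_mono _ (Nat.le_succ _)))
  have h2 := Submodule.finrank_mono h1
  rw [finrank_stdF true (Nat.le_succ _)] at h2
  have h3 : stdF Fr true (n + 2) ⊓ stdF Fr false (n + 2) < stdF Fr true (n + 2) := by
    refine lt_of_le_of_ne inf_le_left fun h => ?_
    have h4 : Fr.b (Fin.last (n + 1), true) ∈ stdF Fr true (n + 2) := b_mem ⟨by simp, by simp [sj]⟩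
    rw [← h] at h4
    have h5 := (b_mem_iff.1 h4.2).2
    simp [sj] at h5
  have h4 := Submodule.finrank_lt_finrank_of_lt h3
  rw [finrank_stdF true le_rfl] at h4
  omega

end frame

section orth

variable {F : Type*} [Field F] {V : Type*} [AddCommGroup V] [Module F V] {Q : QuadraticForm F V}
  (W : WFrame (PO Q) (n + 2))

theorem Q_b (x : Fin (n + 2) × Bool) : Q ((toFrame W).b x) = 0 := by
  rcases x with ⟨i, x⟩
  cases x
  · exact (sing_iff Q).1 (W.f_sing i)
  · exact (sing_iff Q).1 (W.e_sing i)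

/-- the standard subspaces are totally singular -/
theorem stdF_ts (j : Bool) (k : ℕ) : ∀ u ∈ stdF (toFrame W) j k, Q u = 0 := by
  have hp : ∀ u ∈ stdF (toFrame W) j k, ∀ w, Idx j k w → polar Q u ((toFrame W).b w) = 0 := by
    intro u hu w hw
    refine h_eq_zero (H := HO Q) (Fr := toFrame W) (w := w) ?_ hu
    rintro ⟨-, h2⟩
    have h3 := hw.2
    have h4 : (neg w).2 = !w.2 := rfl
    rw [h4] at h2
    have h5 : (neg w).1 = w.1 := rfl
    rw [h5, ← h3] at h2
    cases h6 : w.2 <;> rw [h6] at h2 <;> exact absurd h2 (by decide)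
  intro u hu
  induction hu using Submodule.span_induction with
  | mem x hx =>
    obtain ⟨w, -, rfl⟩ := hx
    exact Q_b W w
  | zero => exact QuadraticMap.map_zero Q
  | add x y hx hy ihx ihy =>
    have h1 : Q (x + y) = Q x + Q y + polar Q x y := by rw [polar]; ring
    have h2 : polar Q x y = 0 := by
      have hx' : x ∈ stdF (toFrame W) j k := hx
      have hy' : y ∈ stdF (toFrame W) j k := hy
      clear ihx ihy h1
      induction hy using Submodule.span_induction with
      | mem z hz =>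
        obtain ⟨w, hw, rfl⟩ := hz
        exact hp x hx' w hw
      | zero => exact polar_zero_right Q x
      | add a b ha hb iha ihb =>
        rw [polar_add_right, iha ha, ihb hb, add_zero]
      | smul c a ha iha => rw [polar_smul_right, iha ha, smul_zero]
    rw [h1, ihx, ihy, h2, add_zero, add_zero]
  | smul c x _ ihx => rw [QuadraticMap.map_smul, ihx, smul_zero]

variable [FiniteDimensional F V]

/-- the dimension of a hyperbolic space -/
theorem finrank_V (h0 : ∀ p : (toFrame W).Adm, p = 1) : finrank F V = 2 * (n + 2) := by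
  have hV0 : ∀ w ∈ W.V0, w = 0 := by
    intro w hw
    have h1 := h0 ⟨w, -Q w, hw, rfl⟩
    exact congrArg Frame.Adm.w h1
  have hspan : Submodule.span F (Set.range (toFrame W).b) = ⊤ := by
    rw [eq_top_iff]
    intro v _
    obtain ⟨a, b, w, hw, e⟩ := W.span v
    rw [e, hV0 w hw, add_zero]
    refine Submodule.add_mem _ (Submodule.sum_mem _ fun i _ => Submodule.smul_mem _ _ ?_)
      (Submodule.sum_mem _ fun i _ => Submodule.smul_mem _ _ ?_)
    · exact Submodule.subset_span ⟨(i, true), rfl⟩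
    · exact Submodule.subset_span ⟨(i, false), rfl⟩
  have h1 := finrank_span_eq_card (linearIndependent_b (Fr := toFrame W))
  rw [hspan, finrank_top, Fintype.card_prod, Fintype.card_fin, Fintype.card_bool] at h1
  omega

/-- **The two families are not fused by `E Q`.** -/
theorem stdF_ne (hQ : Nondeg Q) (h0 : ∀ p : (toFrame W).Adm, p = 1) {g : V ≃ₗ[F] V} (hg : g ∈ E Q) :
    (stdF (toFrame W) true (n + 2)).map (g : V →ₗ[F] V) ≠ stdF (toFrame W) false (n + 2) := by
  intro h
  have h1 := even_of_mem_E (m := n + 2) hQ (finrank_V W h0) hg (stdF (toFrame W) true (n + 2)) (finrank_stdF _ le_rfl)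
    (stdF_ts W _ _)
  rw [h, stdF_inf] at h1
  rw [Nat.even_iff] at h1
  omega

end orth

end Cfsg.Agent.H556.FD
end

-- part: H560/FD/Trans
section
/-!
# Transitivity of `Ω⁺` on the totally singular flags containing a maximal subspace (helper560, S4884 F-D)

* `exists_adapted` : a basis adapted to a flag;
* `coset` : `O Q = E Q · T · ⟨r⟩`, `T` the torus of a hyperbolic pair `e, f`, `r` a reflection fixing `e`, `f`;
* `exists_E_flag` : every totally singular flag whose set `K` of dimensions contains `n + 2` is the image under `E Q`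
  of a standard flag `stdF W j` (`j = true` or `j = false`).
-/

set_option autoImplicit false

namespace Cfsg.Agent.H560.FD

open Module QuadraticMap Cfsg
open Cfsg.Agent.LieClassical Cfsg.Agent.LieClassical.OrthCore Cfsg.Agent.LieClassical.OrthTrans
open Cfsg.Agent.TitsThree Cfsg.Agent.TitsThree.Siegel Cfsg.Agent.TitsThree.SiegelGen
  Cfsg.Agent.TitsThree.WittFrame Cfsg.Agent.TitsThree.WBridge Cfsg.Agent.TitsThree.KSideO

variable {F : Type*} [Field F]

/-! ### adapted bases -/

/-- **a basis adapted to a flag** -/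
theorem exists_adapted {V : Type*} [AddCommGroup V] [Module F V] [FiniteDimensional F V] {m : ℕ} {K : Finset ℕ}
    (hm : m ∈ K) {c : ℕ → Submodule F V} (hrk : ∀ k ∈ K, finrank F (c k) = k)
    (hmono : ∀ k ∈ K, ∀ l ∈ K, k ≤ l → c k ≤ c l) :
    ∃ u : Fin m → V, LinearIndependent F u ∧ ∀ i : Fin m, ∀ k ∈ K, (i : ℕ) < k → u i ∈ c k := by
  suffices H : ∀ l ≤ m, ∃ u : Fin l → V, LinearIndependent F u ∧ ∀ i : Fin l, ∀ k ∈ K, (i : ℕ) < k → u i ∈ c k from
    H m le_rfl
  intro l
  induction l with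
  | zero => exact fun _ => ⟨fun i => i.elim0, linearIndependent_empty_type, fun i => i.elim0⟩
  | succ l ih =>
    intro hl
    obtain ⟨u, hu, huc⟩ := ih (by omega)
    have hne : (K.filter fun k => l < k).Nonempty := ⟨m, Finset.mem_filter.2 ⟨hm, by omega⟩⟩
    set! k0 := (K.filter fun k => l < k).min' hne with hk0
    have hk0m : k0 ∈ K.filter fun k => l < k := Finset.min'_mem _ hne
    obtain ⟨hk0K, hlk0⟩ := Finset.mem_filter.1 hk0m
    have h1 : finrank F (Submodule.span F (Set.range u)) = l := by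
      rw [finrank_span_eq_card hu, Fintype.card_fin]
    obtain ⟨v, hv, hvn⟩ : ∃ v ∈ c k0, v ∉ Submodule.span F (Set.range u) := by
      by_contra hcon
      push Not at hcon
      have h2 : c k0 ≤ Submodule.span F (Set.range u) := hcon
      have h3 := Submodule.finrank_mono h2
      rw [hrk k0 hk0K, h1] at h3
      omega
    refine ⟨Fin.snoc u v, ?_, ?_⟩
    · exact LinearIndependent.finSnoc hu hvn
    · intro i k hk hik
      rcases Fin.eq_castSucc_or_eq_last i with ⟨j, rfl⟩ | rfl
      · rw [Fin.snoc_castSucc]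
        exact huc j k hk (by simpa using hik)
      · rw [Fin.snoc_last]
        refine hmono k0 hk0K k hk ?_ hv
        exact Finset.min'_le _ _ (Finset.mem_filter.2 ⟨hk, by simpa using hik⟩)

/-! ### cosets of `E Q` -/

section coset

variable {V : Type*} [AddCommGroup V] [Module F V] {Q : QuadraticForm F V}

/-- the elements of the torus of `e, f`, times the reflection in `v` or not -/
structure TR (Q : QuadraticForm F V) (e f v : V) (hv : Q v ≠ 0) (k : V ≃ₗ[F] V) : Prop where
  he : ∃ c : F, k e = c • e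
  hf : ∃ c : F, k f = c • f
  perp : (∀ z, polar Q e z = 0 → polar Q f z = 0 → k z = z) ∨
    (∀ z, polar Q e z = 0 → polar Q f z = 0 → k z = refl Q v hv z)

theorem TR.mul {e f v : V} {hv : Q v ≠ 0} (hev : polar Q e v = 0) (hfv : polar Q f v = 0) {k l : V ≃ₗ[F] V}
    (hk : TR Q e f v hv k) (hl : TR Q e f v hv l) : TR Q e f v hv (k * l) := by
  obtain ⟨⟨c, hc⟩, ⟨d, hd⟩, hp⟩ := hk
  obtain ⟨⟨c', hc'⟩, ⟨d', hd'⟩, hp'⟩ := hl
  have hr : ∀ z, polar Q e z = 0 → polar Q f z = 0 →
      polar Q e (refl Q v hv z) = 0 ∧ polar Q f (refl Q v hv z) = 0 := by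
    intro z h1 h2
    rw [refl_apply, sub_eq_add_neg, polar_add_right, polar_add_right, polar_neg_right, polar_neg_right,
      polar_smul_right, polar_smul_right, hev, hfv, h1, h2]
    simp
  have hrr : ∀ z, refl Q v hv (refl Q v hv z) = z := fun z =>
    congrArg (fun g : V ≃ₗ[F] V => g z) (refl_mul_self hv)
  refine ⟨⟨c' * c, ?_⟩, ⟨d' * d, ?_⟩, ?_⟩
  · change k (l e) = _
    rw [hc', map_smul, hc, smul_smul]
  · change k (l f) = _
    rw [hd', map_smul, hd, smul_smul]
  · rcases hp' with hp' | hp'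
    · rcases hp with hp | hp
      · left
        intro z h1 h2
        change k (l z) = z
        rw [hp' z h1 h2, hp z h1 h2]
      · right
        intro z h1 h2
        change k (l z) = _
        rw [hp' z h1 h2, hp z h1 h2]
    · rcases hp with hp | hp
      · right
        intro z h1 h2
        obtain ⟨h3, h4⟩ := hr z h1 h2
        change k (l z) = _
        rw [hp' z h1 h2, hp _ h3 h4]
      · left
        intro z h1 h2
        obtain ⟨h3, h4⟩ := hr z h1 h2
        change k (l z) = _
        rw [hp' z h1 h2, hp _ h3 h4, hrr]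

theorem TR.one {e f v : V} {hv : Q v ≠ 0} : TR Q e f v hv 1 :=
  ⟨⟨1, (one_smul _ _).symm⟩, ⟨1, (one_smul _ _).symm⟩, Or.inl fun _ _ _ => rfl⟩

theorem TR.inv {e f v : V} {hv : Q v ≠ 0} (hev : polar Q e v = 0) (hfv : polar Q f v = 0) (he : e ≠ 0) (hf : f ≠ 0)
    {k : V ≃ₗ[F] V} (hk : TR Q e f v hv k) : TR Q e f v hv k⁻¹ := by
  obtain ⟨⟨c, hc⟩, ⟨d, hd⟩, hp⟩ := hk
  have hr : ∀ z, polar Q e z = 0 → polar Q f z = 0 →
      polar Q e (refl Q v hv z) = 0 ∧ polar Q f (refl Q v hv z) = 0 := by
    intro z h1 h2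
    rw [refl_apply, sub_eq_add_neg, polar_add_right, polar_add_right, polar_neg_right, polar_neg_right,
      polar_smul_right, polar_smul_right, hev, hfv, h1, h2]
    simp
  have hrr : ∀ z, refl Q v hv (refl Q v hv z) = z := fun z =>
    congrArg (fun g : V ≃ₗ[F] V => g z) (refl_mul_self hv)
  have hc0 : c ≠ 0 := by
    rintro rfl
    rw [zero_smul] at hc
    exact he ((LinearEquiv.map_eq_zero_iff k).1 hc)
  have hd0 : d ≠ 0 := by
    rintro rfl
    rw [zero_smul] at hd
    exact hf ((LinearEquiv.map_eq_zero_iff k).1 hd)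
  have hki : ∀ z, k (k⁻¹ z) = z := fun z => k.apply_symm_apply z
  refine ⟨⟨c⁻¹, ?_⟩, ⟨d⁻¹, ?_⟩, ?_⟩
  · apply k.injective
    rw [hki, map_smul, hc, smul_smul, inv_mul_cancel₀ hc0, one_smul]
  · apply k.injective
    rw [hki, map_smul, hd, smul_smul, inv_mul_cancel₀ hd0, one_smul]
  · rcases hp with hp | hp
    · left
      intro z h1 h2
      apply k.injective
      rw [hki, hp z h1 h2]
    · right
      intro z h1 h2
      obtain ⟨h3, h4⟩ := hr z h1 h2
      apply k.injective
      rw [hki, hp _ h3 h4, hrr]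

/-- **`O Q = E Q · T · ⟨r⟩`** -/
theorem coset [FiniteDimensional F V] (hG : Good Q) {e f v : V} (hef : Hyp Q e f) (hv : Q v ≠ 0)
    (hev : polar Q e v = 0) (hfv : polar Q f v = 0) {g : V ≃ₗ[F] V} (hg : g ∈ O Q) :
    ∃ h ∈ E Q, ∃ k ∈ O Q, g = h * k ∧ TR Q e f v hv k := by
  have he : e ≠ 0 := by
    rintro rfl
    have := hef.pair
    rw [polar_zero_left] at this
    exact zero_ne_one this
  have hf : f ≠ 0 := by
    rintro rfl
    have := hef.pair
    rw [polar_zero_right] at this
    exact zero_ne_one this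
  rw [O_eq_closure hG.nondeg] at hg
  have hmulE : ∀ {k h : V ≃ₗ[F] V}, k ∈ O Q → h ∈ E Q → k * h * k⁻¹ ∈ E Q := fun hk hh => conj_mem_E hk hh
  induction hg using Subgroup.closure_induction with
  | mem x hx =>
    rcases hx with ⟨u, hu, rfl⟩ | hx
    · have hq : ∀ α : F, Q (e + α • f) = α := by
        intro α
        rw [Q_add, QuadraticMap.map_smul, polar_smul_right, hef.left, hef.right, hef.pair, smul_zero, smul_eq_mul,
          mul_one]
        ring
      have ha : Q (e + Q u • f) ≠ 0 := by rw [hq]; exact hu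
      have hb : Q (e + Q v • f) ≠ 0 := by rw [hq]; exact hv
      obtain ⟨c, d, t1, t2, t3⟩ := H410.BR.torus hef ha hb
      set! A := refl Q u hu * refl Q _ ha with hA
      set T := refl Q _ ha * refl Q _ hb with hT
      set! C := refl Q _ hb * refl Q v hv with hC
      have hAE : A ∈ E Q := hG.refl_mul_refl_mem ha hu (hq _)
      have hCE : C ∈ E Q := hG.refl_mul_refl_mem hv hb (hq _).symm
      have hTO : T ∈ O Q := (O Q).mul_mem (refl_mem_O ha) (refl_mem_O hb)
      refine ⟨A * (T * C * T⁻¹), (E Q).mul_mem hAE (hmulE hTO hCE), T * refl Q v hv,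
        (O Q).mul_mem hTO (refl_mem_O hv), ?_, ?_⟩
      · have e1 : A * (T * C * T⁻¹) * (T * refl Q v hv) = A * T * C * refl Q v hv := by group
        rw [e1, hA, hT, hC]
        have s1 := refl_mul_self ha
        have s2 := refl_mul_self hb
        have s3 := refl_mul_self hv
        calc refl Q u hu = refl Q u hu * (refl Q _ ha * refl Q _ ha) * (refl Q _ hb * refl Q _ hb) *
              (refl Q v hv * refl Q v hv) := by rw [s1, s2, s3, mul_one, mul_one, mul_one]
          _ = _ := by simp only [mul_assoc]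
      · refine TR.mul hev hfv ⟨⟨c, t1⟩, ⟨d, t2⟩, Or.inl t3⟩ ⟨⟨1, ?_⟩, ⟨1, ?_⟩, Or.inr fun _ _ _ => rfl⟩
        · rw [refl_apply, polar_comm Q v e, hev, mul_zero, zero_smul, sub_zero, one_smul]
        · rw [refl_apply, polar_comm Q v f, hfv, mul_zero, zero_smul, sub_zero, one_smul]
    · exact ⟨x, Subgroup.subset_closure hx, 1, (O Q).one_mem, by rw [mul_one], TR.one⟩
  | one => exact ⟨1, (E Q).one_mem, 1, (O Q).one_mem, by rw [mul_one], TR.one⟩
  | mul x y _ _ hx hy =>
    obtain ⟨h, hh, k, hk, rfl, e1⟩ := hx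
    obtain ⟨h', hh', k', hk', rfl, e1'⟩ := hy
    exact ⟨h * (k * h' * k⁻¹), (E Q).mul_mem hh (hmulE hk hh'), k * k', (O Q).mul_mem hk hk', by group,
      e1.mul hev hfv e1'⟩
  | inv x _ hx =>
    obtain ⟨h, hh, k, hk, rfl, e1⟩ := hx
    exact ⟨k⁻¹ * h⁻¹ * k⁻¹⁻¹, hmulE ((O Q).inv_mem hk) ((E Q).inv_mem hh), k⁻¹, (O Q).inv_mem hk, by group,
      e1.inv hev hfv he hf⟩

end coset

/-! ### the flags -/

section flags

variable {ι : Type*} {Q : QuadraticForm F (ι → F)} {n : ℕ}

/-- the standard flag: `⟨b (i, true) : i < k⟩`, with `b (n + 1, j)` in dimension `n + 2` -/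
def stdF (W : WFrame (PO Q) (n + 2)) (j : Bool) (k : ℕ) : Submodule F (ι → F) :=
  Submodule.span F {v | ∃ i : Fin (n + 2), (i : ℕ) < k ∧ v = (toFrame W).b (i, if (i : ℕ) = n + 1 then j else true)}

theorem stdF_eq_range (W : WFrame (PO Q) (n + 2)) (j : Bool) {k : ℕ} (hk : k ≤ n + 2) :
    stdF W j k = Submodule.span F (Set.range fun i : Fin k =>
      (toFrame W).b (Fin.castLE hk i, if (i : ℕ) = n + 1 then j else true)) := by
  unfold stdF
  congr 1
  ext v
  constructor
  · rintro ⟨i, hi, rfl⟩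
    exact ⟨⟨i, hi⟩, rfl⟩
  · rintro ⟨i, rfl⟩
    exact ⟨Fin.castLE hk i, i.2, rfl⟩

theorem finrank_stdF_le (W : WFrame (PO Q) (n + 2)) (j : Bool) {k : ℕ} (hk : k ≤ n + 2) :
    finrank F (stdF W j k) ≤ k := by
  rw [stdF_eq_range W j hk]
  refine (finrank_range_le_card _).trans ?_
  rw [Fintype.card_fin]

theorem W_ee (W : WFrame (PO Q) (n + 2)) (i j : Fin (n + 2)) : polar Q (W.e i) (W.e j) = 0 := W.ee i j

theorem W_ff (W : WFrame (PO Q) (n + 2)) (i j : Fin (n + 2)) : polar Q (W.f i) (W.f j) = 0 := W.ff i j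

theorem W_ef (W : WFrame (PO Q) (n + 2)) (i j : Fin (n + 2)) :
    polar Q (W.e i) (W.f j) = if i = j then 1 else 0 := W.ef i j

theorem W_fe (W : WFrame (PO Q) (n + 2)) (i j : Fin (n + 2)) :
    polar Q (W.f i) (W.e j) = if i = j then 1 else 0 := W.fe i j

theorem W_e (W : WFrame (PO Q) (n + 2)) (i : Fin (n + 2)) : Q (W.e i) = 0 := (sing_iff Q).1 (W.e_sing i)

theorem W_f (W : WFrame (PO Q) (n + 2)) (i : Fin (n + 2)) : Q (W.f i) = 0 := (sing_iff Q).1 (W.f_sing i)

theorem linInd_e (W : WFrame (PO Q) (n + 2)) : LinearIndependent F W.e := by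
  rw [Fintype.linearIndependent_iff]
  intro a ha i
  have h1 : polar Q (∑ j, a j • W.e j) (W.f i) = a i := by
    have h2 : ∀ s : Finset (Fin (n + 2)), polar Q (∑ j ∈ s, a j • W.e j) (W.f i) =
        ∑ j ∈ s, a j * (if j = i then 1 else 0) := by
      intro s
      classical
      induction s using Finset.induction_on with
      | empty => rw [Finset.sum_empty, Finset.sum_empty, polar_zero_left]
      | insert b s hb ih =>
        rw [Finset.sum_insert hb, Finset.sum_insert hb, polar_add_left, ih, polar_smul_left, W_ef, smul_eq_mul]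
    rw [h2]
    simp
  rw [ha, polar_zero_left] at h1
  exact h1.symm

/-- **transitivity of `E Q` on flags** -/
theorem exists_E_flag [Finite ι] (W : WFrame (PO Q) (n + 2)) (hG : Good Q) {K : Finset ℕ} (hK : ∀ k ∈ K, k ≤ n + 2)
    (hN : n + 2 ∈ K) {c : ℕ → Submodule F (ι → F)} (hts : ∀ v ∈ c (n + 2), Q v = 0)
    (hrk : ∀ k ∈ K, finrank F (c k) = k) (hmono : ∀ k ∈ K, ∀ l ∈ K, k ≤ l → c k ≤ c l) :
    ∃ g ∈ E Q, ∃ j : Bool, ∀ k ∈ K, c k = (stdF W j k).map (g : (ι → F) →ₗ[F] (ι → F)) := by
  obtain ⟨u, hu, huc⟩ := exists_adapted hN hrk hmono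
  have hum : ∀ i, u i ∈ c (n + 2) := fun i => huc i (n + 2) hN i.2
  have hus : ∀ i, Q (u i) = 0 := fun i => hts _ (hum i)
  have hup : ∀ i j, polar Q (u i) (u j) = 0 := by
    intro i j
    rw [polar, hts _ (add_mem (hum i) (hum j)), hus, hus]
    ring
  obtain ⟨g, hg, hgu⟩ := ClassicalGeometry.WittQuad.extend_family Q (H410.BR.nondegenerate_of_nondeg hG.nondeg)
    (n + 2) W.e u (linInd_e W) hu (fun i => by rw [W_e, hus]) (fun i j => by
      change polar Q _ _ = polar Q _ _
      rw [W_ee, hup])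
  set! l : Fin (n + 2) := Fin.last (n + 1) with hl
  have h0l : (0 : Fin (n + 2)) ≠ l := by
    rw [hl]
    intro h
    have := congrArg Fin.val h
    simp at this
  have hv : Q (W.e l - W.f l) = -1 := by
    rw [sub_eq_add_neg, Q_add, QuadraticMap.map_neg, polar_neg_right, W_e, W_f, W_ef, if_pos rfl]
    ring
  have hv0 : Q (W.e l - W.f l) ≠ 0 := by
    rw [hv]; exact neg_ne_zero.2 one_ne_zero
  have hef : Hyp Q (W.e 0) (W.f 0) := ⟨W_e W 0, W_f W 0, by rw [W_ef, if_pos rfl]⟩
  obtain ⟨h, hh, k, hk, hgk, hT⟩ := coset hG hef hv0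
    (by rw [sub_eq_add_neg, polar_add_right, polar_neg_right, W_ee, W_ef, if_neg h0l]; ring)
    (by rw [sub_eq_add_neg, polar_add_right, polar_neg_right, W_ff, W_fe, if_neg h0l]; ring) (show g ∈ O Q from hg)
  have hpol : ∀ i, polar Q (W.e l - W.f l) (W.e i) = -(if l = i then 1 else 0) := by
    intro i
    rw [sub_eq_add_neg, polar_add_left, polar_neg_left, W_ee, W_fe, zero_add]
  -- the action of `k`
  have hkb : ∃ j : Bool, ∀ i : Fin (n + 2), ∃ a : F,
      k (W.e i) = a • (toFrame W).b (i, if (i : ℕ) = n + 1 then j else true) := by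
    have hzero : ∀ j : Bool, ∃ a : F, k (W.e 0) = a • (toFrame W).b ((0 : Fin (n + 2)),
        if ((0 : Fin (n + 2)) : ℕ) = n + 1 then j else true) := by
      intro j
      obtain ⟨a, ha⟩ := hT.he
      refine ⟨a, ?_⟩
      rw [if_neg (by simp), toFrame_b_true, ha]
    have h1 : ∀ i : Fin (n + 2), i ≠ 0 → polar Q (W.e 0) (W.e i) = 0 ∧ polar Q (W.f 0) (W.e i) = 0 := by
      intro i hi
      refine ⟨W_ee W _ _, ?_⟩
      rw [W_fe, if_neg (Ne.symm hi)]
    rcases hT.perp with hp | hp
    · refine ⟨true, fun i => ?_⟩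
      rcases eq_or_ne i 0 with rfl | hi
      · exact hzero true
      · refine ⟨1, ?_⟩
        rw [hp _ (h1 i hi).1 (h1 i hi).2, ite_self, toFrame_b_true, one_smul]
    · refine ⟨false, fun i => ?_⟩
      rcases eq_or_ne i 0 with rfl | hi
      · exact hzero false
      · refine ⟨1, ?_⟩
        rw [hp _ (h1 i hi).1 (h1 i hi).2, refl_apply, hv, one_smul]
        rcases eq_or_ne i l with rfl | hil
        · rw [if_pos (by simp [hl]), toFrame_b_false, hpol, if_pos rfl, inv_mul_cancel₀ (neg_ne_zero.2 one_ne_zero),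
            one_smul, sub_sub_cancel]
        · have h2 : (i : ℕ) ≠ n + 1 := fun h => hil (Fin.ext (by simp [hl, h]))
          rw [if_neg h2, toFrame_b_true, hpol, if_neg (Ne.symm hil), neg_zero, mul_zero, zero_smul, sub_zero]
  obtain ⟨j, hj⟩ := hkb
  refine ⟨h, hh, j, fun d hd => ?_⟩
  have hdn := hK d hd
  -- `c d` is spanned by the `u i`, `i < d`
  have hli : LinearIndependent F fun i : Fin d => u (Fin.castLE hdn i) :=
    hu.comp _ (Fin.castLE_injective hdn)
  have hle : Submodule.span F (Set.range fun i : Fin d => u (Fin.castLE hdn i)) ≤ c d := by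
    rw [Submodule.span_le]
    rintro _ ⟨i, rfl⟩
    exact huc _ d hd i.2
  have heq : Submodule.span F (Set.range fun i : Fin d => u (Fin.castLE hdn i)) = c d := by
    refine Submodule.eq_of_le_of_finrank_le hle ?_
    rw [hrk d hd, finrank_span_eq_card hli, Fintype.card_fin]
  refine Submodule.eq_of_le_of_finrank_le ?_ ?_
  · rw [← heq, Submodule.span_le]
    rintro _ ⟨i, rfl⟩
    obtain ⟨a, ha⟩ := hj (Fin.castLE hdn i)
    have h3 : u (Fin.castLE hdn i) = h (a • (toFrame W).b (Fin.castLE hdn i, if (i : ℕ) = n + 1 then j else true)) := by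
      rw [← hgu, hgk]
      change h (k _) = _
      rw [ha]
      rfl
    change u (Fin.castLE hdn i) ∈ _
    rw [h3]
    refine Submodule.mem_map_of_mem (Submodule.smul_mem _ _ (Submodule.subset_span ⟨Fin.castLE hdn i, i.2, rfl⟩))
  · rw [hrk d hd]
    refine le_trans ?_ (finrank_stdF_le W j hdn)
    exact (LinearEquiv.finrank_map_eq h _).le

end flags

end Cfsg.Agent.H560.FD
end

-- part: H560/CC/TransD
section
/-!
# Totally singular chains of the hyperbolic form and the standard flags (helper560, S4884 F-D)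

* `exists_std` : a chain of totally singular subspaces containing one of dimension `n + 2` is mapped by `E Q` to a
  standard flag;
* `finrank_std`, `admQ_std`, `finrank_le_of_admQ`.
-/

set_option autoImplicit false

namespace Cfsg.Agent.H560.CC

open Module QuadraticMap Cfsg
open Cfsg.Agent.LieClassical Cfsg.Agent.LieClassical.OrthCore Cfsg.Agent.LieClassical.OrthTrans
  Cfsg.Agent.LieClassical.OrthForms
open Cfsg.Agent.TitsThree Cfsg.Agent.TitsThree.Siegel Cfsg.Agent.TitsThree.SiegelGen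
  Cfsg.Agent.TitsThree.WittFrame Cfsg.Agent.TitsThree.WBridge Cfsg.Agent.TitsThree.KSideO
  Cfsg.Agent.Nodes.WittInst
open Cfsg.Agent.H560.FD Cfsg.Agent.H478.CC

variable {F : Type*} [Field F] {n : ℕ}

theorem std_eq_stdF (s : Bool) (k : ℕ) : (std s k : Submodule F _) = stdF (wplus (n + 2) F) s k := by
  unfold std stdF
  congr 1
  ext v
  have h : ∀ i : Fin (n + 2), zz s i = (i, if (i : ℕ) = n + 1 then s else true) := by
    intro i
    unfold zz
    congr 2
    rw [Fin.ext_iff, Fin.val_last]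
  constructor
  · rintro ⟨i, hi, rfl⟩
    exact ⟨i, hi, by rw [← h]⟩
  · rintro ⟨i, hi, rfl⟩
    exact ⟨i, hi, by rw [← h]⟩

/-- the standard vectors are independent -/
theorem linInd_zz (s : Bool) : LinearIndependent F fun i : Fin (n + 2) => (Fr n F).b (zz s i) := by
  have hp : ∀ i j : Fin (n + 2), polar (Qp n F) ((Fr n F).b (zz s i)) ((Fr n F).b ((zz s j).1, !(zz s j).2)) =
      if i = j then 1 else 0 := by
    intro i j
    have hb : ∀ (t : Bool), polar (Qp n F) ((Fr n F).b (i, t)) ((Fr n F).b (j, !t)) = if i = j then 1 else 0 := by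
      intro t
      cases t
      · exact W_fe (wplus (n + 2) F) i j
      · exact W_ef (wplus (n + 2) F) i j
    have hne : ∀ (t u : Bool), i ≠ j → polar (Qp n F) ((Fr n F).b (i, t)) ((Fr n F).b (j, u)) = 0 := by
      intro t u hij
      cases t <;> cases u
      · exact W_ff (wplus (n + 2) F) i j
      · rw [show polar (Qp n F) ((Fr n F).b (i, false)) ((Fr n F).b (j, true)) = if i = j then 1 else 0 from
          W_fe (wplus (n + 2) F) i j, if_neg hij]
      · rw [show polar (Qp n F) ((Fr n F).b (i, true)) ((Fr n F).b (j, false)) = if i = j then 1 else 0 from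
          W_ef (wplus (n + 2) F) i j, if_neg hij]
      · exact W_ee (wplus (n + 2) F) i j
    rcases eq_or_ne i j with rfl | hij
    · exact hb _
    · rw [if_neg hij]
      exact hne _ _ hij
  rw [Fintype.linearIndependent_iff]
  intro a ha i
  have h1 : polar (Qp n F) (∑ j, a j • (Fr n F).b (zz s j)) ((Fr n F).b ((zz s i).1, !(zz s i).2)) = a i := by
    have h2 : ∀ S : Finset (Fin (n + 2)), polar (Qp n F) (∑ j ∈ S, a j • (Fr n F).b (zz s j))
        ((Fr n F).b ((zz s i).1, !(zz s i).2)) = ∑ j ∈ S, a j * (if j = i then 1 else 0) := by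
      intro S
      classical
      induction S using Finset.induction_on with
      | empty => rw [Finset.sum_empty, Finset.sum_empty, polar_zero_left]
      | insert b S hb ih =>
        rw [Finset.sum_insert hb, Finset.sum_insert hb, polar_add_left, ih, polar_smul_left, hp, smul_eq_mul]
    rw [h2]
    simp
  rw [ha, polar_zero_left] at h1
  exact h1.symm

theorem finrank_std (s : Bool) {k : ℕ} (hk : k ≤ n + 2) : finrank F (std s k : Submodule F (Fin (n + 2) ⊕ Fin (n + 2) → F)) = k := by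
  have h1 : (std s k : Submodule F (Fin (n + 2) ⊕ Fin (n + 2) → F)) =
      Submodule.span F (Set.range fun i : Fin k => (Fr n F).b (zz s (Fin.castLE hk i))) := by
    unfold std
    congr 1
    ext v
    constructor
    · rintro ⟨i, hi, rfl⟩
      exact ⟨⟨i, hi⟩, rfl⟩
    · rintro ⟨i, rfl⟩
      exact ⟨Fin.castLE hk i, i.2, rfl⟩
  have h2 : LinearIndependent F fun i : Fin k => (Fr n F).b (zz s (Fin.castLE hk i)) :=
    (linInd_zz s).comp _ (Fin.castLE_injective hk)
  rw [h1, finrank_span_eq_card h2, Fintype.card_fin]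

/-- the span of orthogonal singular vectors is totally singular -/
theorem sing_span {V : Type*} [AddCommGroup V] [Module F V] (Q : QuadraticForm F V) {S : Set V} (h0 : ∀ v ∈ S, Q v = 0)
    (h1 : ∀ v ∈ S, ∀ w ∈ S, polar Q v w = 0) : ∀ v ∈ Submodule.span F S, Q v = 0 := by
  have h2 : ∀ w ∈ S, ∀ v ∈ Submodule.span F S, polar Q v w = 0 := by
    intro w hw v hv
    induction hv using Submodule.span_induction with
    | mem v hv => exact h1 v hv w hw
    | zero => exact polar_zero_left _ _
    | add v v' _ _ h h' => rw [polar_add_left, h, h', add_zero]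
    | smul a v _ h => rw [polar_smul_left, h, smul_zero]
  have h3 : ∀ v ∈ Submodule.span F S, ∀ w ∈ Submodule.span F S, polar Q v w = 0 := by
    intro v hv w hw
    induction hw using Submodule.span_induction with
    | mem w hw => exact h2 w hw v hv
    | zero => exact polar_zero_right _ _
    | add v v' _ _ h h' => rw [polar_add_right, h, h', add_zero]
    | smul a v _ h => rw [polar_smul_right, h, smul_zero]
  intro v hv
  induction hv using Submodule.span_induction with
  | mem v hv => exact h0 v hv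
  | zero => exact QuadraticMap.map_zero Q
  | add v v' hv hv' h h' => rw [Q_add, h, h', h3 v hv v' hv']; ring
  | smul a v _ h => rw [QuadraticMap.map_smul, h, smul_zero]

theorem admQ_std (s : Bool) (k : ℕ) : AdmQ (std s k : Submodule F (Fin (n + 2) ⊕ Fin (n + 2) → F)) := by
  refine sing_span (Qp n F) ?_ ?_
  · rintro _ ⟨i, -, rfl⟩
    change (Qp n F) ((Fr n F).b (zz s i)) = 0
    generalize zz s i = w
    rcases w with ⟨i, t⟩
    cases t
    · exact W_f (wplus (n + 2) F) i
    · exact W_e (wplus (n + 2) F) i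
  · rintro _ ⟨i, -, rfl⟩ _ ⟨j, -, rfl⟩
    change polar (Qp n F) ((Fr n F).b (i, if i = Fin.last (n + 1) then s else true))
      ((Fr n F).b (j, if j = Fin.last (n + 1) then s else true)) = 0
    have hee : polar (Qp n F) ((Fr n F).b (i, true)) ((Fr n F).b (j, true)) = 0 := W_ee (wplus (n + 2) F) i j
    have hff : polar (Qp n F) ((Fr n F).b (i, false)) ((Fr n F).b (j, false)) = 0 := W_ff (wplus (n + 2) F) i j
    have hef : i ≠ j → polar (Qp n F) ((Fr n F).b (i, true)) ((Fr n F).b (j, false)) = 0 := fun hij => by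
      rw [show polar (Qp n F) ((Fr n F).b (i, true)) ((Fr n F).b (j, false)) = if i = j then 1 else 0 from
        W_ef (wplus (n + 2) F) i j, if_neg hij]
    have hfe : i ≠ j → polar (Qp n F) ((Fr n F).b (i, false)) ((Fr n F).b (j, true)) = 0 := fun hij => by
      rw [show polar (Qp n F) ((Fr n F).b (i, false)) ((Fr n F).b (j, true)) = if i = j then 1 else 0 from
        W_fe (wplus (n + 2) F) i j, if_neg hij]
    by_cases h1 : i = Fin.last (n + 1)
    · by_cases h2 : j = Fin.last (n + 1)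
      · rw [if_pos h1, if_pos h2]
        cases s
        · exact hff
        · exact hee
      · rw [if_pos h1, if_neg h2]
        cases s
        · exact hfe (fun h => h2 (h ▸ h1))
        · exact hee
    · by_cases h2 : j = Fin.last (n + 1)
      · rw [if_neg h1, if_pos h2]
        cases s
        · exact hef (fun h => h1 (h ▸ h2))
        · exact hee
      · rw [if_neg h1, if_neg h2]
        exact hee

/-- totally singular subspaces have dimension at most `n + 2` -/
theorem finrank_le_of_admQ {U : Submodule F (Fin (n + 2) ⊕ Fin (n + 2) → F)} (hU : AdmQ U) : finrank F U ≤ n + 2 := by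
  have h1 := H410.BR.finrank_pp (Q := Qp n F) (nondeg_plusForm (n + 2) F) U
  have h2 : U ≤ H410.BR.pp (polarBilin (Qp n F)) U := by
    intro x hx y hy
    change polar (Qp n F) x y = 0
    rw [polar, hU _ (add_mem hx hy), hU x hx, hU y hy]
    ring
  have h3 := Submodule.finrank_mono h2
  rw [Module.finrank_fintype_fun_eq_card, Fintype.card_sum, Fintype.card_fin] at h1
  omega

/-- **chains of totally singular subspaces and the standard flags** -/
theorem exists_std (hG : Good (Qp n F)) (c : Finset (Submodule F (Fin (n + 2) ⊕ Fin (n + 2) → F)))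
    (hc : IsChain (· ≤ ·) (c : Set (Submodule F (Fin (n + 2) ⊕ Fin (n + 2) → F)))) (hA : ∀ U ∈ c, AdmQ U)
    (hN : ∃ U ∈ c, finrank F U = n + 2) :
    ∃ g ∈ E (Qp n F), ∃ s : Bool, ∀ U ∈ c,
      U.map (g : (Fin (n + 2) ⊕ Fin (n + 2) → F) →ₗ[F] (Fin (n + 2) ⊕ Fin (n + 2) → F)) = std s (finrank F U) := by
  classical
  have hle : ∀ U ∈ c, ∀ U' ∈ c, finrank F U ≤ finrank F U' → U ≤ U' := by
    intro U hU U' hU' h
    rcases hc.total hU hU' with h1 | h1
    · exact h1
    · exact (Submodule.eq_of_le_of_finrank_le h1 h).ge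
  let d : ℕ → Submodule F (Fin (n + 2) ⊕ Fin (n + 2) → F) := fun k =>
    if h : ∃ U ∈ c, finrank F U = k then h.choose else ⊥
  have hd : ∀ k ∈ c.image (fun U : Submodule F (Fin (n + 2) ⊕ Fin (n + 2) → F) => finrank F U), d k ∈ c ∧ finrank F (d k) = k := by
    intro k hk
    obtain ⟨U, hU, hUk⟩ := Finset.mem_image.1 hk
    have h : ∃ U ∈ c, finrank F U = k := ⟨U, hU, hUk⟩
    have : d k = h.choose := dif_pos h
    rw [this]
    exact h.choose_spec
  have hdU : ∀ U ∈ c, d (finrank F U) = U := by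
    intro U hU
    obtain ⟨h1, h2⟩ := hd _ (Finset.mem_image_of_mem _ hU)
    exact le_antisymm (hle _ h1 _ hU h2.le) (hle _ hU _ h1 h2.ge)
  obtain ⟨U0, hU0, hU0n⟩ := hN
  have hn2 : n + 2 ∈ c.image (fun U : Submodule F (Fin (n + 2) ⊕ Fin (n + 2) → F) => finrank F U) := Finset.mem_image.2 ⟨U0, hU0, hU0n⟩
  obtain ⟨g, hg, s, hgs⟩ := exists_E_flag (wplus (n + 2) F) hG (K := c.image (fun U : Submodule F (Fin (n + 2) ⊕ Fin (n + 2) → F) => finrank F U)) (c := d)
    (fun k hk => by
      obtain ⟨h1, h2⟩ := hd k hk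
      rw [← h2]
      exact finrank_le_of_admQ (hA _ h1)) hn2 (hA _ (hd _ hn2).1) (fun k hk => (hd k hk).2)
    (fun k hk l hl hkl => hle _ (hd k hk).1 _ (hd l hl).1 (by rw [(hd k hk).2, (hd l hl).2]; exact hkl))
  refine ⟨g⁻¹, inv_mem hg, s, fun U hU => ?_⟩
  have h1 := hgs _ (Finset.mem_image_of_mem _ hU)
  change d (finrank F U) = _ at h1
  rw [hdU U hU] at h1
  rw [std_eq_stdF]
  exact H410.BR.map_inv_eq h1.symm

end Cfsg.Agent.H560.CC
end

-- part: H478/CC/FlagsD
section
/-!
# The flags of `PΩ⁺_{2(n+2)}` (S4884, row oplus, block F-D)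

`flags_D` : the structure `Flags` for the two families of totally singular flags of the hyperbolic form; stabilizers:
and disjointness: helper556; transitivity: helper560; count: `H478/CC/Count.lean`.
-/

set_option autoImplicit false

namespace Cfsg.Agent.H478.CC

open Cfsg Cfsg.Agent.LieClassical Cfsg.Agent.LieClassical.OrthForms QuadraticMap
open Cfsg.Agent.LieClassical.OrthCore Cfsg.Agent.LieClassical.OrthTrans
open Cfsg.Agent.LieClassical.OrthSimple Cfsg.Agent.LieClassical.OrthFinite
open Cfsg.Agent.ChevalleyStructure.CoxeterGeom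
open Cfsg.Agent.TitsThree Cfsg.Agent.TitsThree.KSideO Cfsg.Agent.TitsThree.WBridge Cfsg.Agent.TitsThree.WittFrame
open Cfsg.Agent.TitsThree.Siegel Cfsg.Agent.TitsThree.SiegelGen Cfsg.Agent.TitsThree.WittWeyl
open Cfsg.Agent.Nodes.WittInst Cfsg.Agent.Nodes.WittRoot Cfsg.Agent.Nodes.BNOf Cfsg.Agent.Nodes.LeviDec
open Cfsg.Agent.Nodes.TypeD
open Cfsg.Agent.Nodes.WittRGD (Tor)
open Cfsg.Agent.H439.CC
open scoped Classical

variable {F : Type*} [Field F] {n : ℕ}

theorem std_eq_F (s : Bool) (k : ℕ) :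
    (std s k : Submodule F (Fin (n + 2) ⊕ Fin (n + 2) → F)) = H556.FD.stdF (Fr n F) s k := by
  unfold std H556.FD.stdF
  congr 1
  have h : ∀ i : Fin (n + 2), zz s i = (i, H556.FD.sj s i) := by
    intro i
    unfold zz H556.FD.sj
    congr 2
    exact propext ⟨fun h => by rw [h]; rfl, fun h => Fin.ext h⟩
  ext v
  constructor
  · rintro ⟨i, hi, rfl⟩
    exact ⟨zz s i, ⟨hi, by rw [h i]⟩, rfl⟩
  · rintro ⟨⟨i, t⟩, ⟨h1, h2⟩, rfl⟩
    refine ⟨i, h1, ?_⟩
    simp only at h2 ⊢
    rw [h i, h2]

theorem std_mono (s : Bool) {k l : ℕ} (h : k ≤ l) :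
    (std s k : Submodule F (Fin (n + 2) ⊕ Fin (n + 2) → F)) ≤ std s l :=
  Submodule.span_mono (Set.image_mono fun _ hi => lt_of_lt_of_le hi h)

/-- the standard chain -/
noncomputable def sig (n : ℕ) (F : Type*) [Field F] (K : Finset ℕ) (s : Bool) :
    Finset (Submodule F (Fin (n + 2) ⊕ Fin (n + 2) → F)) := K.image fun k => std s k

theorem mem_sig {K : Finset ℕ} {s : Bool} {U : Submodule F (Fin (n + 2) ⊕ Fin (n + 2) → F)} :
    U ∈ sig n F K s ↔ ∃ k ∈ K, std s k = U := Finset.mem_image

theorem ch_sig {K : Finset ℕ} (hK : K ⊆ Finset.Icc 1 (n + 2)) (s : Bool) : Ch AdmQ K (sig n F K s) := by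
  have hK' : ∀ k ∈ K, 1 ≤ k ∧ k ≤ n + 2 := fun k hk => Finset.mem_Icc.1 (hK hk)
  refine ⟨?_, ?_, ?_⟩
  · intro U hU U' hU' _
    obtain ⟨k, _, rfl⟩ := mem_sig.1 hU
    obtain ⟨l, _, rfl⟩ := mem_sig.1 hU'
    rcases le_total k l with h | h
    · exact Or.inl (std_mono s h)
    · exact Or.inr (std_mono s h)
  · intro U hU
    obtain ⟨k, hk, rfl⟩ := mem_sig.1 hU
    refine ⟨H560.CC.admQ_std s k, bot_lt_iff_ne_bot.2 fun h => ?_⟩
    have h1 := H560.CC.finrank_std (F := F) s (hK' k hk).2
    rw [h, finrank_bot] at h1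
    have := (hK' k hk).1
    omega
  · rw [sig, Finset.image_image]
    conv_rhs => rw [← Finset.image_id (s := K)]
    exact Finset.image_congr fun k hk => H560.CC.finrank_std s (hK' k hk).2

/-- **(F) for `PΩ⁺_{2(n+2)}`** (`hd`: the two families are disjoint) -/
theorem flags_D_of [Finite F] (hG : Good (Qp n F)) {p : ℕ} [Fact p.Prime] [CharP F p] {G : Type*} [Group G]
    (cs : CoxeterSystem (M n) G)
    (hd : ∀ g ∈ E (Qp n F), (H556.FD.stdF (Fr n F) true (n + 2)).map
      (g : (Fin (n + 2) ⊕ Fin (n + 2) → F) →ₗ[F] (Fin (n + 2) ⊕ Fin (n + 2) → F)) ≠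
        H556.FD.stdF (Fr n F) false (n + 2)) :
    Flags (AdmQ (n := n) (F := F)) (E (Qp n F)).subtype (toPOmega hG) (n + 2)
      (fun K j => PJ cs (isCartan n) (((Tor (Fr n F) (E (Qp n F))).subgroupOf (E (Qp n F))).map (toPOmega hG))
        (XD (wplus (n + 2) F) (toPOmega hG)) (JD K j)) := by
  have hfin : Finite (Cfsg.POmega F ⇑(Qp n F)) := by
    have : Finite ((Fin (n + 2) ⊕ Fin (n + 2) → F) ≃ₗ[F] (Fin (n + 2) ⊕ Fin (n + 2) → F)) :=
      Finite.of_injective (fun g : (Fin (n + 2) ⊕ Fin (n + 2) → F) ≃ₗ[F] (Fin (n + 2) ⊕ Fin (n + 2) → F) =>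
        (g : (Fin (n + 2) ⊕ Fin (n + 2) → F) → (Fin (n + 2) ⊕ Fin (n + 2) → F))) DFunLike.coe_injective
    exact Finite.of_surjective _ (toPOmega_surjective hG)
  refine flags_of_orbits (fun u hu => by rw [(Submodule.mem_bot F).1 hu, QuadraticMap.map_zero])
    (fun U U' h h' u hu => h' u (h hu)) ?_ (toPOmega_surjective hG) (ker_toPOmega hG) _ (fun K j => sig n F K j)
    (fun K hK _ j => ch_sig hK j) ?_ ?_ ?_
  · rintro g U hU _ ⟨u, hu, rfl⟩
    exact (mem_O.1 (E_le_O g.2) u).trans (hU u hu)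
  · intro K hK hN j g
    rw [H556.FD.mem_PJ_iff (wplus (n + 2) F) hG (amb_plus (n + 2)) (adm_plus (n + 2)) (p := p) cs hK hN j g]
    constructor
    · intro h U hU
      obtain ⟨k, hk, rfl⟩ := mem_sig.1 hU
      rw [std_eq_F]
      exact h k hk
    · intro h k hk
      have h1 := h _ (mem_sig.2 ⟨k, hk, rfl⟩)
      rw [std_eq_F] at h1
      exact h1
  · intro K hK hN c hc
    have hN' : ∃ U ∈ c, Module.finrank F U = n + 2 := by
      have h1 := hc.2.2
      rw [← h1] at hN
      obtain ⟨U, hU, e⟩ := Finset.mem_image.1 hN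
      exact ⟨U, hU, e⟩
    obtain ⟨g, hg, s, h⟩ := H560.CC.exists_std hG c hc.1 (fun U hU => (hc.2.1 U hU).1) hN'
    refine ⟨⟨g⁻¹, inv_mem hg⟩, s, ?_⟩
    have h2 : im g c = sig n F K s := by
      ext U
      rw [mem_im, mem_sig]
      constructor
      · rintro ⟨U', hU', rfl⟩
        refine ⟨Module.finrank F U', ?_, (h U' hU').symm⟩
        rw [← hc.2.2]
        exact Finset.mem_image_of_mem _ hU'
      · rintro ⟨k, hk, rfl⟩
        rw [← hc.2.2] at hk
        obtain ⟨U', hU', e⟩ := Finset.mem_image.1 hk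
        exact ⟨U', hU', by rw [h U' hU', e]⟩
    show c = im g⁻¹ (sig n F K s)
    rw [← h2, ← im_mul, inv_mul_cancel, im_one]
  · intro K hK hN j j' g hjj
    have hfr : ∀ s : Bool, Module.finrank F (std s (n + 2) : Submodule F (Fin (n + 2) ⊕ Fin (n + 2) → F)) = n + 2 :=
      fun s => H560.CC.finrank_std s le_rfl
    have h1 : (std j (n + 2) : Submodule F (Fin (n + 2) ⊕ Fin (n + 2) → F)).map
        (g.1 : (Fin (n + 2) ⊕ Fin (n + 2) → F) →ₗ[F] (Fin (n + 2) ⊕ Fin (n + 2) → F)) = std j' (n + 2) := by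
      have h2 : (std j (n + 2) : Submodule F (Fin (n + 2) ⊕ Fin (n + 2) → F)).map
        (g.1 : (Fin (n + 2) ⊕ Fin (n + 2) → F) →ₗ[F] (Fin (n + 2) ⊕ Fin (n + 2) → F)) ∈ sig n F K j' := by
        rw [hjj]
        exact mem_im.2 ⟨_, mem_sig.2 ⟨n + 2, hN, rfl⟩, rfl⟩
      exact (ch_sig hK j').eq_of_finrank h2 (mem_sig.2 ⟨n + 2, hN, rfl⟩)
        ((LinearEquiv.finrank_map_eq g.1 _).trans ((hfr j).trans (hfr j').symm))
    rw [std_eq_F, std_eq_F] at h1
    cases j <;> cases j'
    · rfl
    · exfalso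
      have h2 := map_eq_iff.1 h1
      exact hd g.1⁻¹ (inv_mem g.2) h2.symm
    · exact absurd h1 (hd g.1 g.2)
    · rfl

/-- **(F) for `PΩ⁺_{2(n+2)}`** -/
theorem flags_D [Finite F] (hG : Good (Qp n F)) {p : ℕ} [Fact p.Prime] [CharP F p]
    {G : Type*} [Group G] (cs : CoxeterSystem (M n) G) :
    Flags (AdmQ (n := n) (F := F)) (E (Qp n F)).subtype (toPOmega hG) (n + 2)
      (fun K j => PJ cs (isCartan n) (((Tor (Fr n F) (E (Qp n F))).subgroupOf (E (Qp n F))).map (toPOmega hG))
        (XD (wplus (n + 2) F) (toPOmega hG)) (JD K j)) :=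
  flags_D_of hG (p := p) cs fun _ hg => H556.FD.stdF_ne (wplus (n + 2) F) (nondeg_plusForm (n + 2) F)
    (adm_plus (n + 2)) hg

end Cfsg.Agent.H478.CC
end

private theorem dce_1727f9ba24d2 : _root_.True := by
  try have : _root_.True := by simp only [_root_.Cfsg.Agent.H478.CC.sig.eq_1]
  exact _root_.True.intro
end
end
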